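import Cfsg.Agent.Lib.Sporadic.LyLower.Simple

/-!
# The stabilisers of the five representatives (owner: helper25)
-/

set_option autoImplicit false
set_option maxRecDepth 20000

namespace CfsgLib.Sporadic.LyLower

open Cfsg CfsgLib.Sporadic CfsgLib.Sporadic.LyGTwo CfsgLib.Sporadic.LyCoset

theorem index_stabP (k : Fin 5) : (stabP k.val).index = orbitSizes k := by
  rw [← ncard_orb, ncard_orb_eq]

theorem card_stabP {k : ℕ} (hk : k ∈ [1, 2, 3, 4]) : Nat.card (stabP k) = stabOrders.getD k 0 := by
  have hk5 : k < 5 := by fin_cases hk <;> norm_num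
  have h := (stabP k).index_mul_card
  rw [show (stabP k).index = orbitSizes ⟨k, hk5⟩ from index_stabP ⟨k, hk5⟩, card_P4_eq] at h
  fin_cases hk <;> simp [orbitSizes, stabOrders] at h ⊢ <;> omega

theorem stabP_eq_gensK {k : ℕ} (hk : k ∈ [1, 2, 3, 4]) : stabP k = gensK k :=
  (Subgroup.eq_of_le_of_card_ge (gensK_le_stabP hk)
    ((card_stabP hk).trans_le (card_gensK (stab_all k hk)))).symm

end CfsgLib.Sporadic.LyLower
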