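import Cfsg.Agent.Lib.Sporadic.LyRep.Hom
import Cfsg.Agent.Lib.Sporadic.LyLower.RowData

/-!
# Subgroups of prime power order in the image of degree 111 (owner: helper25)
-/

set_option autoImplicit false
set_option maxRecDepth 20000

namespace CfsgLib.Sporadic.LyLower

open Cfsg CfsgLib.Sporadic.LyRep
open CfsgLib.Sporadic.PairEnum (flp)
open CfsgLib.Sporadic.LyGroup (gl)
open scoped Matrix

/-- The units of degree 111. -/
abbrev Gam : Type := (Mat 111)ˣ

/-- A word in the image. -/
noncomputable def uw (w : List ℕ) : Gam := (w.map unit).prod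

theorem rho_gl {x : ℕ} (hx : x < 10) : rho (gl x) = unit x := by
  have key : ∀ (g : Spor.Ly.Gen) (y : ℕ), LyGroup.defW g = [y] →
      rho (PresentedGroup.of g) = unit y := fun g y h => by rw [rho, LyGroup.lift_of, h]; simp
  have hinv : ∀ y, rho (gl y) = unit y → rho (gl (y ^^^ 1)) = unit (y ^^^ 1) := fun y h => by
    rw [show y ^^^ 1 = flp y from rfl, LyGroup.gl_flp, map_inv, h, unit_flp]
  interval_cases x
  · exact key .a 0 rfl
  · exact hinv 0 (key .a 0 rfl)
  · exact key .b 2 rfl
  · exact hinv 2 (key .b 2 rfl)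
  · exact key .c 4 rfl
  · exact hinv 4 (key .c 4 rfl)
  · exact key .d 6 rfl
  · exact hinv 6 (key .d 6 rfl)
  · exact key .z 8 rfl
  · exact hinv 8 (key .z 8 rfl)

theorem rho_word {w : List ℕ} (hw : ∀ x ∈ w, x < 10) : rho ((w.map gl).prod) = uw w := by
  rw [map_list_prod, List.map_map, uw]
  exact congrArg List.prod (List.map_congr_left fun x hx => rho_gl (hw x hx))

theorem uw_val {w : List ℕ} (hw : ∀ x ∈ w, x < 10) : ((uw w : Gam) : Mat 111) = (w.map mat).prod := by
  rw [uw, ← Units.coeHom_apply, map_list_prod, List.map_map]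
  exact congrArg List.prod (List.map_congr_left fun x hx => unit_val (hx := hw x hx))

theorem uw_append (u v : List ℕ) : uw (u ++ v) = uw u * uw v := by simp [uw]

/-- Two words with the same image. -/
noncomputable def eqU (u v : List ℕ) : Bool :=
  (u.all fun x => Nat.blt x 10) && ((v.all fun x => Nat.blt x 10) &&
    Nat.beq (evalSp rmLit maskLit oneLit spMats u) (evalSp rmLit maskLit oneLit spMats v))

theorem eqU_sound {u v : List ℕ} (h : eqU u v = true) : uw u = uw v := by
  simp only [eqU, Bool.and_eq_true, List.all_eq_true, Nat.blt_eq, Nat.beq_eq] at h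
  obtain ⟨hu, hv, he⟩ := h
  rw [sp_eq hu, sp_eq hv] at he
  refine Units.ext ?_
  rw [uw_val hu, uw_val hv]
  exact enc_injective (packB_inj (enc_bound _) (enc_bound _) (by simp [enc]) he)

/-- A row vector. -/
abbrev Col : Type := Fin 111 → ZMod 5

/-- A row vector packed. -/
def encCol (v : Col) : ℕ := packF 111 fun i => (v i).val

/-- A row vector from digits. -/
def colOf (l : List ℕ) : Col := fun i => (l.getD i.val 0 : ℕ)

/-- The packed rows of a letter. -/
noncomputable def rpk (g : ℕ) : List (ℕ × ℕ) :=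
  cond (Nat.beq g 0) rp0 (cond (Nat.beq g 1) rp1 (cond (Nat.beq g 2) rp2 (cond (Nat.beq g 3) rp3
    (cond (Nat.beq g 4) rp4 (cond (Nat.beq g 5) rp5 (cond (Nat.beq g 6) rp6 (cond (Nat.beq g 7) rp7
      (cond (Nat.beq g 8) rp8 rp9))))))))

/-- A packed row times packed rows. -/
noncomputable def rdot (C : List (ℕ × ℕ)) (x : ℕ) : ℕ :=
  List.rec (motive := fun _ => ℕ) 0
    (fun e _ ih => Nat.add (Nat.mul e.1 (Nat.land (Nat.shiftRight x e.2) 16777215)) ih) C

/-- A packed row times a word. -/
noncomputable def cword (w : List ℕ) : ℕ → ℕ :=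
  List.rec (motive := fun _ => ℕ → ℕ) (fun c => c)
    (fun g _ ih c => strict (LyRep.red maskLit (rdot (rpk g) c)) ih) w

/-- Digits packed with the place of a row. -/
noncomputable def packRow (l : List ℕ) : ℕ :=
  List.rec (motive := fun _ => ℕ) 0 (fun a _ ih => Nat.add a (Nat.shiftLeft ih 24)) l

theorem packF_slot : ∀ (n : ℕ) (f : Fin n → ℕ) (k : Fin n), (∀ i, f i < 2 ^ 24) →
    packF n f / 2 ^ (24 * k.val) % 2 ^ 24 = f k
  | 0, _, k, _ => k.elim0
  | n + 1, f, k, hf => by
    induction k using Fin.cases with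
    | zero =>
      rw [Fin.val_zero, Nat.mul_zero, pow_zero, Nat.div_one, packF, Nat.add_mul_mod_self_left, Nat.mod_eq_of_lt (hf 0)]
    | succ j =>
      rw [Fin.val_succ, Nat.mul_succ, pow_add, mul_comm (2 ^ (24 * j.val)), ← Nat.div_div_eq_div_mul, packF,
        Nat.add_mul_div_left _ _ (Nat.two_pow_pos _), Nat.div_eq_of_lt (hf 0), zero_add,
        packF_slot n (fun i => f i.succ) j fun i => hf i.succ]

theorem packRow_eq : ∀ (l : List ℕ) {n : ℕ}, l.length = n → packRow l = packF n fun i => l.getD i.val 0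
  | [], _, h => by subst h; rfl
  | a :: l, _, h => by
    subst h
    show a + (packRow l <<< 24) = packF (l.length + 1) _
    rw [packF, packRow_eq l rfl, Nat.shiftLeft_eq, mul_comm _ (2 ^ 24)]
    rfl

theorem rdot_ofFn (x : ℕ) : ∀ (n : ℕ) (f : Fin n → ℕ × ℕ),
    rdot (List.ofFn f) x = ∑ k : Fin n, (f k).1 * Nat.land (Nat.shiftRight x (f k).2) 16777215
  | 0, f => rfl
  | n + 1, f => by
    rw [List.ofFn_succ, Fin.sum_univ_succ, ← rdot_ofFn x n]
    rfl

theorem rows_check : ∀ g : Fin 10, (rpk g.val).map Prod.fst = (mats g.val).map packRow ∧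
    (rpk g.val).map Prod.snd = (List.range 111).map (fun k => 24 * k) := by decide +kernel

theorem packF_sum_cols : ∀ (m n : ℕ) (c : Fin n → ℕ) (f : Fin n → Fin m → ℕ),
    ∑ k, packF m (f k) * c k = packF m fun j => ∑ k, f k j * c k
  | m, 0, c, f => by simp [packF_zero]
  | m, n + 1, c, f => by
    rw [Fin.sum_univ_succ, packF_sum_cols m n, mul_comm (packF m (f 0)), packF_smul, packF_add]
    refine congrArg (packF m) (funext fun j => ?_)
    rw [Fin.sum_univ_succ, mul_comm (c 0)]

theorem vecMul_entry {n : ℕ} (v : Fin n → ZMod 5) (A : Mat n) (j : Fin n) :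
    (v ᵥ* A) j = ∑ k, v k * A k j := rfl

theorem mat_entry (g : ℕ) (i k : Fin 111) :
    mat g i k = (((mats g).getD i.val []).getD k.val 0 : ℕ) := rfl

theorem rpk_ofFn {g : ℕ} (hg : g < 10) :
    rpk g = List.ofFn fun k : Fin 111 => (packF 111 (fun j => (mat g k j).val), 24 * k.val) := by
  obtain ⟨h1, h2⟩ := rows_check ⟨g, hg⟩
  dsimp only at h1 h2
  have hok := len_of_lt hg
  simp only [rowsOK, Bool.and_eq_true, beq_iff_eq, List.all_eq_true] at hok
  refine List.ext_getElem ?_ fun k hk hk' => ?_
  · have := congrArg List.length h2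
    simpa using this
  · simp only [List.length_ofFn] at hk'
    have e1 : ((rpk g).map Prod.fst)[k]'(by simpa using hk) = ((mats g).map packRow)[k]'(by simp [hok.1, hk']) :=
      List.getElem_of_eq h1 _
    have e2 : ((rpk g).map Prod.snd)[k]'(by simpa using hk) =
        ((List.range 111).map fun k => 24 * k)[k]'(by simp [hk']) := List.getElem_of_eq h2 _
    simp only [List.getElem_map, List.getElem_range] at e1 e2
    rw [List.getElem_ofFn]
    refine Prod.ext ?_ e2
    have hrow := hok.2 _ (List.getElem_mem (l := mats g) (n := k) (by omega))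
    rw [e1, packRow_eq _ hrow.1]
    dsimp only
    refine congrArg (packF 111) (funext fun j => ?_)
    show _ = (mat g ⟨k, hk'⟩ j).val
    rw [mat_entry, List.getD_eq_getElem (mats g) _ (by omega), ZMod.val_natCast, Nat.mod_eq_of_lt]
    have hj : j.val < ((mats g)[k]'(by omega)).length := by rw [hrow.1]; exact j.isLt
    rw [List.getD_eq_getElem _ _ hj]
    simpa using hrow.2 _ (List.getElem_mem hj)

theorem rdot_eq {C : List (ℕ × ℕ)} (A : Mat 111)
    (hC : C = List.ofFn fun k : Fin 111 => (packF 111 (fun j => (A k j).val), 24 * k.val)) (v : Col) :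
    LyRep.red maskLit (rdot C (encCol v)) = encCol (v ᵥ* A) := by
  subst hC
  rw [rdot_ofFn]
  have hs : ∀ k : Fin 111, Nat.land (Nat.shiftRight (encCol v) (24 * k.val)) 16777215 = (v k).val := by
    intro k
    show (encCol v >>> (24 * k.val)) &&& (2 ^ 24 - 1) = _
    rw [Nat.and_two_pow_sub_one_eq_mod, Nat.shiftRight_eq_div_pow]
    exact packF_slot 111 _ k fun i => (ZMod.val_lt _).trans_le (by norm_num)
  simp only [hs]
  rw [packF_sum_cols, maskLit_eq, red_packF _ fun j => ?_]
  · refine congrArg (packF 111) (funext fun j => ?_)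
    rw [← ZMod.val_natCast, Nat.cast_sum, vecMul_entry]
    refine congrArg ZMod.val (Finset.sum_congr rfl fun k _ => ?_)
    rw [Nat.cast_mul, ZMod.natCast_zmod_val, ZMod.natCast_zmod_val, mul_comm]
  · refine le_trans (Finset.sum_le_sum (g := fun _ => 4 * 4) fun k _ => ?_) (by simp)
    exact Nat.mul_le_mul (Nat.le_of_lt_succ (ZMod.val_lt _)) (Nat.le_of_lt_succ (ZMod.val_lt _))

theorem rstep_eq {g : ℕ} (hg : g < 10) (v : Col) :
    LyRep.red maskLit (rdot (rpk g) (encCol v)) = encCol (v ᵥ* mat g) := rdot_eq (mat g) (rpk_ofFn hg) v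

theorem cword_eq : ∀ {w : List ℕ}, (∀ x ∈ w, x < 10) → ∀ v : Col,
    cword w (encCol v) = encCol (v ᵥ* (w.map mat).prod)
  | [], _, v => by simp [cword]
  | g :: w, h, v => by
    show strict (LyRep.red maskLit (rdot (rpk g) (encCol v))) (cword w) = _
    rw [strict_eq, rstep_eq (h g List.mem_cons_self), cword_eq (fun x hx => h x (List.mem_cons_of_mem _ hx)),
      List.map_cons, List.prod_cons, Matrix.vecMul_vecMul]

theorem cword_uw {w : List ℕ} (hw : ∀ x ∈ w, x < 10) (v : Col) :
    cword w (encCol v) = encCol (v ᵥ* ((uw w : Gam) : Mat 111)) := by rw [cword_eq hw, uw_val hw]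

/-- Membership of a number in a list. -/
noncomputable def hasN (l : List ℕ) (x : ℕ) : Bool := l.any fun y => Nat.beq x y

/-- A generator from packed rows, checked against its word. -/
noncomputable def denseOK (g : List ℕ) (C : List (ℕ × ℕ)) : Bool :=
  (g.all fun x => Nat.blt x 10) && (Nat.beq C.length 111 &&
  ((C.map Prod.fst).all (fun r => Nat.blt r (Nat.shiftLeft 1 rowBits)) &&
  (decide (C.map Prod.snd = (List.range 111).map fun k => 24 * k) &&
    Nat.beq (evalSp rmLit maskLit oneLit spMats g) (packB (C.map Prod.fst)))))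

theorem denseOK_sound {g : List ℕ} {C : List (ℕ × ℕ)} (h : denseOK g C = true) :
    C = List.ofFn fun k : Fin 111 => (packF 111 (fun j => (((uw g : Gam) : Mat 111) k j).val), 24 * k.val) := by
  simp only [denseOK, Bool.and_eq_true, List.all_eq_true, Nat.blt_eq, Nat.beq_eq, decide_eq_true_eq] at h
  obtain ⟨hg, hlen, hb, hsh, he⟩ := h
  rw [sp_eq hg] at he
  rw [uw_val hg]
  have hfst : enc (g.map mat).prod = C.map Prod.fst :=
    packB_inj (enc_bound _) (fun x hx => by
      have := hb x hx
      rwa [show Nat.shiftLeft 1 rowBits = 1 <<< rowBits from rfl, Nat.one_shiftLeft] at this)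
      (by simp [enc, hlen]) he
  generalize (g.map mat).prod = A at hfst
  refine List.ext_getElem (by rw [List.length_ofFn]; exact hlen) fun k hk hk' => ?_
  rw [List.length_ofFn] at hk'
  have e1 : (C.map Prod.fst)[k]'(by simpa using hk) = (enc A)[k]'(by simp [enc, hk']) :=
    List.getElem_of_eq hfst.symm _
  have e2 : (C.map Prod.snd)[k]'(by simpa using hk) =
      ((List.range 111).map fun k => 24 * k)[k]'(by simp [hk']) := List.getElem_of_eq hsh _
  simp only [List.getElem_map, List.getElem_range] at e1 e2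
  rw [List.getElem_ofFn]
  refine Prod.ext ?_ e2
  dsimp only
  rw [e1]
  simp only [enc, List.getElem_ofFn]

/-- A packed row times a word in generators given by packed rows. -/
noncomputable def dword (D : List (List (ℕ × ℕ))) (w : List ℕ) : ℕ → ℕ :=
  List.rec (motive := fun _ => ℕ → ℕ) (fun c => c)
    (fun g _ ih c => strict (LyRep.red maskLit (rdot (D.getD g []) c)) ih) w

/-- The value of a word in generators. -/
noncomputable def gw (G : List (List ℕ)) (w : List ℕ) : Gam := (w.map fun q => uw (G.getD q [])).prod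

/-- The rows present the generators. -/
def Dense (G : List (List ℕ)) (D : List (List (ℕ × ℕ))) : Prop :=
  ∀ i < 7, D.getD i [] = List.ofFn fun k : Fin 111 =>
    (packF 111 (fun j => (((uw (G.getD i []) : Gam) : Mat 111) k j).val), 24 * k.val)

theorem dword_eq {G : List (List ℕ)} {D : List (List (ℕ × ℕ))} (hD : Dense G D) :
    ∀ {w : List ℕ}, (∀ x ∈ w, x < 7) → ∀ v : Col,
      dword D w (encCol v) = encCol (v ᵥ* ((gw G w : Gam) : Mat 111))
  | [], _, v => by simp [dword, gw]
  | g :: w, h, v => by
    show strict (LyRep.red maskLit (rdot (D.getD g []) (encCol v))) (dword D w) = _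
    rw [strict_eq, rdot_eq _ (hD g (h g List.mem_cons_self)), dword_eq hD fun x hx => h x (List.mem_cons_of_mem _ hx),
      Matrix.vecMul_vecMul, gw, gw, List.map_cons, List.prod_cons, Units.val_mul]

theorem encCol_injective : Function.Injective encCol := fun v w h => funext fun j =>
  ZMod.val_injective 5 (congrFun (packF_inj 111 _ _ (fun k => (ZMod.val_lt (v k)).trans_le (by norm_num))
    (fun k => (ZMod.val_lt (w k)).trans_le (by norm_num)) h) j)

theorem unit_enc : ∀ k : Fin 111, encCol (Pi.single k 1) = Nat.shiftLeft 1 (24 * k.val) := by decide +kernel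

/-- Two words in generators with the same images of all unit rows. -/
noncomputable def eqD (D : List (List (ℕ × ℕ))) (u v : List ℕ) : Bool :=
  (u.all fun x => Nat.blt x 7) && ((v.all fun x => Nat.blt x 7) &&
    (List.range 111).all fun k => strict (Nat.shiftLeft 1 (24 * k)) fun e => Nat.beq (dword D u e) (dword D v e))

theorem eqD_sound {G : List (List ℕ)} {D : List (List (ℕ × ℕ))} (hD : Dense G D) {u v : List ℕ}
    (h : eqD D u v = true) : gw G u = gw G v := by
  simp only [eqD, Bool.and_eq_true, List.all_eq_true, Nat.blt_eq, List.mem_range, strict_eq, Nat.beq_eq] at h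
  obtain ⟨hu, hv, he⟩ := h
  refine Units.ext (Matrix.ext fun i j => ?_)
  have h1 := he i.val i.isLt
  rw [← unit_enc, dword_eq hD hu, dword_eq hD hv] at h1
  have h2 := congrFun (encCol_injective h1) j
  simpa [Matrix.single_one_vecMul] using h2

/-- The product of powers, as a word in generators. -/
def powIdx (e : List ℕ) : List ℕ := (List.range e.length).flatMap fun q => List.replicate (e.getD q 0) q

/-- One relation of a step. -/
noncomputable def relOK (D : List (List (ℕ × ℕ))) (i : ℕ) (rels : List (List ℕ)) (j : ℕ) : Bool :=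
  cond (Nat.beq j i) (eqD D [i, i, i] (powIdx (rels.getD i [])))
    (eqD D [j, i] (i :: powIdx (rels.getD j [])))

/-- The checks for adjoining one generator of order three modulo the earlier ones. -/
noncomputable def stepOK (D : List (List (ℕ × ℕ))) (i : ℕ) (rels : List (List ℕ)) (O : List (List ℕ)) : Bool :=
  let Oc := O.map fun l => encCol (colOf l)
  Nat.blt i 7 && ((rels.all fun r => Nat.ble r.length i) && ((List.range (i + 1)).all (relOK D i rels) &&
  ((List.range i).all (fun j => Oc.all fun y => hasN Oc (dword D [j] y)) &&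
  (!(hasN Oc (dword D [i] (encCol (colOf (O.headD []))))) && !O.isEmpty))))

/-- The subgroup of the first generators. -/
noncomputable def spanU (G : List (List ℕ)) (i : ℕ) : Subgroup Gam :=
  Subgroup.closure {u | ∃ j < i, u = uw (G.getD j [])}

theorem powIdx_mem {G : List (List ℕ)} {i : ℕ} {e : List ℕ} (he : e.length ≤ i) :
    gw G (powIdx e) ∈ spanU G i := by
  rw [gw]
  refine Subgroup.list_prod_mem _ fun x hx => ?_
  obtain ⟨q, hq, rfl⟩ := List.mem_map.1 hx
  simp only [powIdx, List.mem_flatMap, List.mem_range, List.mem_replicate] at hq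
  obtain ⟨r, hr, -, rfl⟩ := hq
  exact Subgroup.subset_closure ⟨q, by omega, rfl⟩

theorem card_sup_zpowers {G : Type*} [Group G] [Finite G] {p : ℕ} (hp : p.Prime) {H : Subgroup G} {a : G}
    (hconj : ∀ h ∈ H, a⁻¹ * h * a ∈ H) (hpow : a ^ p ∈ H) (hnot : a ∉ H) :
    Nat.card (H ⊔ Subgroup.zpowers a : Subgroup G) = p * Nat.card H := by
  classical
  have hinj : Function.Injective (fun h : H => (⟨a⁻¹ * h * a, hconj h h.2⟩ : H)) := by
    intro x y h
    have h' := congrArg Subtype.val h
    exact Subtype.ext (mul_left_cancel (mul_right_cancel h'))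
  have hback : ∀ h ∈ H, a * h * a⁻¹ ∈ H := by
    intro h hh
    obtain ⟨⟨x, hx⟩, he⟩ := (Finite.injective_iff_surjective.1 hinj) ⟨h, hh⟩
    have he' : a⁻¹ * x * a = h := congrArg Subtype.val he
    rw [← he']
    convert hx using 1
    group
  have hnorm : Subgroup.zpowers a ≤ Subgroup.normalizer (H : Set G) := by
    rw [Subgroup.zpowers_le, Subgroup.mem_normalizer_iff]
    intro h
    refine ⟨hback h, fun hh => ?_⟩
    have := hconj _ hh
    convert this using 1
    group
  set K := H ⊔ Subgroup.zpowers a
  have hHK : H ≤ K := le_sup_left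
  have hKn : K ≤ Subgroup.normalizer (H : Set G) := sup_le Subgroup.le_normalizer hnorm
  have hN : (H.subgroupOf K).Normal := Subgroup.normal_subgroupOf_of_le_normalizer hKn
  set a' : K := ⟨a, (le_sup_right : Subgroup.zpowers a ≤ K) (Subgroup.mem_zpowers a)⟩
  set π := QuotientGroup.mk' (H.subgroupOf K)
  have htop : Subgroup.zpowers (π a') = ⊤ := by
    rw [eq_top_iff]
    rintro q -
    obtain ⟨⟨x, hx⟩, rfl⟩ := QuotientGroup.mk'_surjective _ q
    have hle : K ≤ ((Subgroup.zpowers (π a')).comap π).map K.subtype := by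
      refine sup_le (fun h hh => ?_) (Subgroup.zpowers_le.2 ?_)
      · refine ⟨⟨h, hHK hh⟩, ?_, rfl⟩
        show π ⟨h, hHK hh⟩ ∈ Subgroup.zpowers (π a')
        have h1 : π ⟨h, hHK hh⟩ = 1 :=
          (QuotientGroup.eq_one_iff _).2 (show (⟨h, hHK hh⟩ : K) ∈ H.subgroupOf K from hh)
        rw [h1]
        exact one_mem _
      · exact ⟨a', Subgroup.mem_zpowers (π a'), rfl⟩
    obtain ⟨y, hy, he⟩ := hle hx
    obtain rfl : y = ⟨x, hx⟩ := Subtype.ext he
    exact hy
  have hord : orderOf (π a') = p := by
    have := Fact.mk hp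
    refine orderOf_eq_prime ?_ ?_
    · rw [← map_pow]; exact (QuotientGroup.eq_one_iff _).2 hpow
    · exact fun e => hnot ((QuotientGroup.eq_one_iff _).1 e : a' ∈ H.subgroupOf K)
  have hq : Nat.card (K ⧸ H.subgroupOf K) = p := by
    rw [← hord, ← Nat.card_zpowers, htop, Subgroup.card_top]
  rw [Subgroup.card_eq_card_quotient_mul_card_subgroup (H.subgroupOf K), hq,
    Nat.card_congr (Subgroup.subgroupOfEquivOfLe hHK).toEquiv]

theorem step_card {G : List (List ℕ)} {D : List (List (ℕ × ℕ))} (hD : Dense G D) {i : ℕ} {rels : List (List ℕ)}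
    {O : List (List ℕ)} (h : stepOK D i rels O = true) :
    Nat.card (spanU G (i + 1)) = 3 * Nat.card (spanU G i) := by
  classical
  simp only [stepOK, Bool.and_eq_true, List.all_eq_true, List.mem_range, Nat.blt_eq, Nat.ble_eq,
    Bool.not_eq_true'] at h
  obtain ⟨hi, hlens, hrel, hclosed, hout, hne⟩ := h
  set g := G.getD i [] with hgdef
  set H := spanU G i with hH
  set a := uw g with ha
  have hlen : ∀ j, (rels.getD j []).length ≤ i := fun j => by
    rcases Nat.lt_or_ge j rels.length with h | h
    · rw [List.getD_eq_getElem _ _ h]; exact hlens _ (List.getElem_mem h)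
    · rw [List.getD_eq_default _ _ h]; exact Nat.zero_le _
  have hc : ∀ x ∈ H, a⁻¹ * x * a ∈ H := by
    intro x hx
    have hle : H ≤ H.comap (MulAut.conj a⁻¹).toMonoidHom := by
      rw [hH, spanU, Subgroup.closure_le]
      rintro _ ⟨j, hj, rfl⟩
      have he := hrel j (by omega)
      rw [relOK, show Nat.beq j i = false from Bool.eq_false_iff.2 fun e => by
        have := Nat.eq_of_beq_eq_true e
        omega, cond_false] at he
      have he' := eqD_sound hD he
      simp only [gw, List.map_cons, List.prod_cons, List.map_nil, List.prod_nil, mul_one] at he'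
      show a⁻¹ * uw (G.getD j []) * a⁻¹⁻¹ ∈ spanU G i
      rw [inv_inv, mul_assoc, ha, hgdef, he', inv_mul_cancel_left]
      exact powIdx_mem (hlen j)
    simpa [MulAut.conj_apply] using hle hx
  have hp : a ^ 3 ∈ H := by
    have he := hrel i (by omega)
    rw [relOK, Nat.beq_refl, cond_true] at he
    have he' := eqD_sound hD he
    simp only [gw, List.map_cons, List.prod_cons, List.map_nil, List.prod_nil, mul_one] at he'
    rw [pow_succ, pow_two, mul_assoc, ha, hgdef, he']
    exact powIdx_mem (hlen i)
  have hone : ∀ j < 7, ∀ v : Col, dword D [j] (encCol v) = encCol (v ᵥ* ((uw (G.getD j []) : Gam) : Mat 111)) :=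
    fun j hj v => by rw [dword_eq hD (by simp [hj])]; simp [gw]
  have hnot : a ∉ H := by
    intro hin
    have key : ∀ b ∈ H, ∀ v : Col, hasN (O.map fun l => encCol (colOf l)) (encCol v) = true →
        hasN (O.map fun l => encCol (colOf l)) (encCol (v ᵥ* (b : Mat 111))) = true := by
      intro b hb
      rw [hH, spanU, ← Subgroup.mem_toSubmonoid, Subgroup.closure_toSubmonoid_of_finite] at hb
      induction hb using Submonoid.closure_induction with
      | mem x hx =>
        obtain ⟨j, hj, rfl⟩ := hx
        intro v hv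
        simp only [hasN, List.any_eq_true, Nat.beq_eq] at hv
        obtain ⟨y, hy, e⟩ := hv
        have h' := hclosed j hj y hy
        rwa [← e, hone j (by omega)] at h'
      | one => intro v hv; simpa using hv
      | mul x y _ _ hx hy =>
        intro v hv
        rw [Units.val_mul, ← Matrix.vecMul_vecMul]
        exact hy _ (hx _ hv)
    cases O with
    | nil => simp at hne
    | cons l O =>
      have hk := key a hin (colOf l) (by simp [hasN])
      rw [List.headD_cons, hone i hi, ← hgdef, ← ha, hk] at hout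
      exact absurd hout (by simp)
  have hsucc : spanU G (i + 1) = H ⊔ Subgroup.zpowers a := by
    refine le_antisymm ?_ (sup_le (Subgroup.closure_mono ?_) ?_)
    · rw [spanU, Subgroup.closure_le]
      rintro _ ⟨j, hj, rfl⟩
      rcases Nat.lt_or_ge j i with hji | hji
      · exact Subgroup.mem_sup_left (Subgroup.subset_closure ⟨j, hji, rfl⟩)
      · obtain rfl : j = i := by omega
        exact Subgroup.mem_sup_right (Subgroup.mem_zpowers _)
    · rintro _ ⟨j, hj, rfl⟩; exact ⟨j, by omega, rfl⟩
    · exact Subgroup.zpowers_le.2 (Subgroup.subset_closure ⟨i, by omega, rfl⟩)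
  rw [hsucc, card_sup_zpowers (by norm_num) hc hp hnot]

theorem spanU_zero (G : List (List ℕ)) : Nat.card (spanU G 0) = 1 := by
  have : spanU G 0 = ⊥ := by rw [spanU, Subgroup.closure_eq_bot_iff]; rintro _ ⟨j, hj, rfl⟩; omega
  rw [this, Subgroup.card_bot]

theorem spanU_le_range {G : List (List ℕ)} {i : ℕ} (hG : ∀ j < i, ∀ x ∈ G.getD j [], x < 10) :
    spanU G i ≤ rho.range := by
  rw [spanU, Subgroup.closure_le]
  rintro _ ⟨j, hj, rfl⟩
  exact ⟨_, rho_word (hG j hj)⟩

/-- A nontrivial image whose prime power is trivial. -/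
noncomputable def primeOK (p : ℕ) (g : List ℕ) : Bool :=
  eqU (List.replicate p g).flatten [] && ((g.all fun x => Nat.blt x 10) &&
    !(Nat.beq (evalSp rmLit maskLit oneLit spMats g) oneLit))

theorem prime_dvd_card {p : ℕ} (hp : p.Prime) {g : List ℕ} (h : primeOK p g = true) :
    p ∣ Nat.card Spor.Ly := by
  simp only [primeOK, Bool.and_eq_true, List.all_eq_true, Nat.blt_eq, Bool.not_eq_true'] at h
  obtain ⟨hpw, hg, hne⟩ := h
  have hpow : ∀ n, uw (List.replicate n g).flatten = uw g ^ n := fun n => by
    induction n with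
    | zero => simp [uw]
    | succ n ih => rw [List.replicate_succ, List.flatten_cons, uw_append, ih, pow_succ']
  have h1 : uw g ≠ 1 := fun e => by
    have e' : ((uw g : Gam) : Mat 111) = 1 := by rw [e]; rfl
    rw [uw_val hg] at e'
    rw [sp_eq hg, show (fun x => toMat 111 (mats x)) = mat from rfl, e', oneLit_eq, ← enc_one, Nat.beq_refl] at hne
    exact absurd hne (by simp)
  have := Fact.mk hp
  have hord := orderOf_eq_prime (x := uw g) (by rw [← hpow, eqU_sound hpw]; simp [uw]) h1
  rw [← hord, ← rho_word hg]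
  exact (orderOf_map_dvd rho _).trans (orderOf_dvd_natCard _)

end CfsgLib.Sporadic.LyLower
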