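import Cfsg.Agent.Lib.Sporadic.LyLower.DenseData

set_option autoImplicit false
set_option maxRecDepth 20000
set_option Elab.async false

/-! The rows present the generators (owner: helper25). -/

namespace CfsgLib.Sporadic.LyLower

theorem dense3_0 : denseOK (gens3.getD 0 []) dRows0 = true := by decide +kernel

theorem dense3_1 : denseOK (gens3.getD 1 []) dRows1 = true := by decide +kernel

theorem dense3_2 : denseOK (gens3.getD 2 []) dRows2 = true := by decide +kernel

theorem dense3_3 : denseOK (gens3.getD 3 []) dRows3 = true := by decide +kernel

theorem dense3_4 : denseOK (gens3.getD 4 []) dRows4 = true := by decide +kernel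

theorem dense3_5 : denseOK (gens3.getD 5 []) dRows5 = true := by decide +kernel

theorem dense3_6 : denseOK (gens3.getD 6 []) dRows6 = true := by decide +kernel

theorem dense3_ok : Dense gens3 dense3 := by
  intro i hi
  interval_cases i
  exacts [denseOK_sound dense3_0, denseOK_sound dense3_1, denseOK_sound dense3_2, denseOK_sound dense3_3, denseOK_sound dense3_4, denseOK_sound dense3_5, denseOK_sound dense3_6]

end CfsgLib.Sporadic.LyLower
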