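import Cfsg.Agent.Lib.Sporadic.LyLower.Cert

set_option autoImplicit false
set_option maxRecDepth 20000
set_option Elab.async false

/-! Elements of order 11, 37, 67 (owner: helper25). -/

namespace CfsgLib.Sporadic.LyLower

theorem prime11 : primeOK 11 [4, 8, 7, 2, 8, 2] = true := by decide +kernel

theorem prime37 : primeOK 37 [8, 4, 0, 7] = true := by decide +kernel

theorem prime67 : primeOK 67 [7, 0, 8, 7, 5] = true := by decide +kernel

end CfsgLib.Sporadic.LyLower
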