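import Cfsg.Agent.Lib.Sporadic.LyLower.DenseData

set_option autoImplicit false
set_option maxRecDepth 20000
set_option Elab.async false

/-! Checks of the steps (owner: helper25). -/

namespace CfsgLib.Sporadic.LyLower

theorem step0 : stepOK dense3 0 rels0 orb0 = true := by decide +kernel

theorem step1 : stepOK dense3 1 rels1 orb1 = true := by decide +kernel

theorem step2 : stepOK dense3 2 rels2 orb2 = true := by decide +kernel

theorem step3 : stepOK dense3 3 rels3 orb3 = true := by decide +kernel

theorem step4 : stepOK dense3 4 rels4 orb4 = true := by decide +kernel

theorem step5 : stepOK dense3 5 rels5 orb5 = true := by decide +kernel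

theorem step6 : stepOK dense3 6 rels6 orb6 = true := by decide +kernel

end CfsgLib.Sporadic.LyLower
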