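import Cfsg.Agent.Lib.Sporadic.LyLower.DenseCheck
import Cfsg.Agent.Lib.Sporadic.LyLower.Steps
import Cfsg.Agent.Lib.Sporadic.LyLower.Primes
import Cfsg.Agent.Lib.Sporadic.LyCoset.Exact

/-!
# The order of the presented Lyons group (owner: helper25)
-/

set_option autoImplicit false
set_option maxRecDepth 20000

namespace CfsgLib.Sporadic.LyLower

open Cfsg CfsgLib.Sporadic CfsgLib.Sporadic.LyCoset

theorem dvd3 : 3 ^ 7 ∣ Nat.card Spor.Ly := by
  have h0 := spanU_zero gens3
  have h1 := step_card dense3_ok step0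
  have h2 := step_card dense3_ok step1
  have h3 := step_card dense3_ok step2
  have h4 := step_card dense3_ok step3
  have h5 := step_card dense3_ok step4
  have h6 := step_card dense3_ok step5
  have h7 := step_card dense3_ok step6
  have h : Nat.card (spanU gens3 7) = 3 ^ 7 := by
    rw [h7, h6, h5, h4, h3, h2, h1, h0]
    norm_num
  rw [← h]
  refine (Subgroup.card_dvd_of_le (spanU_le_range ?_)).trans (Subgroup.card_range_dvd _)
  have hl : ∀ j : Fin 7, (gens3.getD j.val []).all (fun x => Nat.blt x 10) = true := by decide +kernel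
  intro j hj x hx
  simpa using List.all_eq_true.1 (hl ⟨j, hj⟩) x hx

theorem dvd_index : 2208789 ∣ N0.index := by
  have h11 := prime_dvd_card (by norm_num) prime11
  have h37 := prime_dvd_card (by norm_num) prime37
  have h67 := prime_dvd_card (by norm_num) prime67
  have hall : 11 * 37 * 67 * 3 ^ 7 ∣ Nat.card Spor.Ly :=
    Nat.Coprime.mul_dvd_of_dvd_of_dvd (by norm_num)
      (Nat.Coprime.mul_dvd_of_dvd_of_dvd (by norm_num) (Nat.Coprime.mul_dvd_of_dvd_of_dvd (by norm_num) h11 h37) h67)
      dvd3
  rw [← N0.index_mul_card, card_N0, show 11 * 37 * 67 * 3 ^ 7 = 59637303 by norm_num] at hall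
  obtain ⟨c, hc⟩ := hall
  have h2 : 2208789 ∣ 217000000 * N0.index := ⟨c, by linarith⟩
  exact (Nat.Coprime.dvd_mul_left (by decide +kernel)).1 h2

theorem index_eq : N0.index = 8835156 := index_eq_of_dvd dvd_index

theorem card_eq : Nat.card Spor.Ly = 51765179004000000 := by
  rw [← N0.index_mul_card, card_N0, index_eq]

end CfsgLib.Sporadic.LyLower
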