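import Cfsg.Agent.Lib.Sporadic.LyLower.Order

/-!
# The presented Lyons group is simple (owner: helper25)
-/

set_option autoImplicit false
set_option maxRecDepth 20000

namespace CfsgLib.Sporadic.LyLower

open Cfsg CfsgLib.Sporadic CfsgLib.Sporadic.LyGTwo CfsgLib.Sporadic.LyCoset
open CfsgLib.Sporadic.LyGroup (gl)

/-- The sizes of the five orbits. -/
def orbitSizes : Fin 5 → ℕ := ![1, 19530, 968750, 5812500, 2034375]

theorem freshCount_eq : ∀ k, freshCount k = orbitSizes k := by
  obtain ⟨a1, a2, a3, a4⟩ := stabP_index_eq index_eq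
  intro k
  fin_cases k
  exacts [freshCount_zero, a1, a2, a3, a4]

theorem orb_disjoint {j k : Fin 5} (hjk : j ≠ k) : Disjoint (orb j) (orb k) := by
  have key : ∀ {j k : Fin 5}, j < k → orb j ≠ orb k := by
    intro j k hlt he
    have h : freshCount k = 0 := by
      rw [freshCount, show orb k \ (⋃ i < k, orb i) = ∅ from ?_, Set.ncard_empty]
      exact Set.diff_eq_empty.2 fun x hx => Set.mem_iUnion₂.2 ⟨j, hlt, he ▸ hx⟩
    rw [freshCount_eq] at h
    fin_cases k <;> simp [orbitSizes] at h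
  refine (orb_eq_or_disjoint j k).resolve_left ?_
  rcases lt_or_gt_of_ne hjk with h | h
  · exact key h
  · exact fun e => key h e.symm

theorem ncard_orb_eq (k : Fin 5) : (orb k).ncard = orbitSizes k := by
  rw [← freshCount_eq, freshCount, show orb k \ (⋃ j < k, orb j) = orb k from ?_]
  exact sdiff_eq_left.2 (Set.disjoint_iUnion₂_right.2 fun j hj => (orb_disjoint (ne_of_lt hj)).symm)

theorem no_block : ∀ S : Finset (Fin 5), 0 ∈ S → (∑ k ∈ S, orbitSizes k) ∣ 8835156 →
    S = {0} ∨ S = Finset.univ := by decide +kernel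

/-- G₂(5) is maximal. -/
theorem maximal (U : Subgroup Spor.Ly) (hU : N0 ≤ U) : U = N0 ∨ U = ⊤ := by
  classical
  have : Fintype (Spor.Ly ⧸ N0) := Fintype.ofFinite _
  set S : Finset (Fin 5) := Finset.univ.filter fun k : Fin 5 => ev (W k.val) ∈ U with hS
  set A : Set (Spor.Ly ⧸ N0) := QuotientGroup.mk '' (U : Set Spor.Ly) with hA
  have hpre : QuotientGroup.mk ⁻¹' A = (U : Set Spor.Ly) := by
    ext g
    refine ⟨?_, fun h => ⟨g, h, rfl⟩⟩
    rintro ⟨u, hu, he⟩
    have h' := mul_mem hu (hU (QuotientGroup.eq.1 he))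
    rwa [mul_inv_cancel_left] at h'
  have hmem : ∀ x : Σ k : Fin 5, P4 ⧸ stabP k.val, toPt x ∈ A ↔ x.1 ∈ S := by
    rintro ⟨k, q⟩
    obtain ⟨p, rfl⟩ := QuotientGroup.mk_surjective q
    show ((toLy p * (ev (W k.val))⁻¹ : Spor.Ly) : Spor.Ly ⧸ N0) ∈ A ↔ _
    rw [← Set.mem_preimage, hpre, SetLike.mem_coe, hS, Finset.mem_filter]
    simp only [Finset.mem_univ, true_and]
    constructor
    · intro h
      have h' := mul_mem (inv_mem (hU (⟨p, rfl⟩ : toLy p ∈ N0))) h
      rw [inv_mul_cancel_left] at h'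
      exact inv_mem_iff.1 h'
    · exact fun h => mul_mem (hU ⟨p, rfl⟩) (inv_mem h)
  have hAeq : A = ⋃ k ∈ S, orb k := by
    ext y
    obtain ⟨⟨k, q⟩, rfl⟩ := toPt_surjective y
    simp only [Set.mem_iUnion, hmem]
    constructor
    · exact fun h => ⟨k, h, q, rfl⟩
    · rintro ⟨j, hj, q', hq'⟩
      have : j = k := by
        by_contra hne
        exact Set.disjoint_left.1 (orb_disjoint hne) ⟨q', hq'⟩ ⟨q, rfl⟩
      exact this ▸ hj
  have hcardA : Nat.card A = ∑ k ∈ S, orbitSizes k := by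
    have hfin : A.toFinset = S.biUnion fun k => (orb k).toFinset := by
      ext y; simp [hAeq]
    rw [Nat.card_coe_set_eq, Set.ncard_eq_toFinset_card', hfin, Finset.card_biUnion]
    · exact Finset.sum_congr rfl fun k _ => by rw [← Set.ncard_eq_toFinset_card', ncard_orb_eq]
    · intro j _ k _ hjk
      rw [Function.onFun, Set.disjoint_toFinset]
      exact orb_disjoint hjk
  have hcardU : Nat.card U = Nat.card N0 * Nat.card A := by
    rw [← Nat.card_prod, ← Nat.card_congr (QuotientGroup.preimageMkEquivSubgroupProdSet N0 A), hpre]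
    rfl
  have hdvd : (∑ k ∈ S, orbitSizes k) ∣ 8835156 := by
    have h1 := Subgroup.card_subgroup_dvd_card U
    rw [hcardU, hcardA, card_eq, card_N0] at h1
    exact Nat.dvd_of_mul_dvd_mul_left (by norm_num : 0 < 5859000000) (by norm_num; exact h1)
  have h0 : (0 : Fin 5) ∈ S := by
    rw [hS, Finset.mem_filter]
    exact ⟨Finset.mem_univ _, by rw [show ((0 : Fin 5) : ℕ) = 0 from rfl, W_base.1, ev_nil]; exact one_mem U⟩
  rcases no_block S h0 hdvd with hS0 | hS1
  · left
    symm
    refine Subgroup.eq_of_le_of_card_ge hU ?_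
    rw [hcardU, hcardA, hS0, Finset.sum_singleton, show orbitSizes 0 = 1 from rfl, mul_one]
  · right
    refine Subgroup.eq_top_of_le_card U ?_
    rw [hcardU, hcardA, hS1, show ∑ k : Fin 5, orbitSizes k = 8835156 by decide +kernel, card_eq, card_N0]

theorem Z_ne_one : Z ≠ 1 := by
  intro hZ
  have hle : (⊤ : Subgroup Spor.Ly) ≤ N0 := by
    rw [← LyGroup.gl_closure, Subgroup.closure_le]
    rintro _ ⟨k, hk, rfl⟩
    by_cases h8 : k = 8
    · subst h8
      show Z ∈ N0
      rw [hZ]; exact one_mem _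
    · have := ev_mem (w := [k]) (by fin_cases hk <;> first | decide +kernel | exact absurd rfl h8)
      simpa using this
  have := index_eq
  rw [top_le_iff.1 hle, Subgroup.index_top] at this
  omega

/-- A vanishing quotient: no normal subgroup but everything contains G₂(5). -/
theorem eq_top_of_le {M : Subgroup Spor.Ly} [M.Normal] (h : N0 ≤ M) : M = ⊤ := by
  have hgl : ∀ k, k < 8 → gl k ∈ M := fun k hk => h (by simpa using ev_mem (w := [k]) (by simp [isN, hk]))
  have hZ : Z ∈ M := by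
    rw [← QuotientGroup.eq_one_iff]
    have q : ∀ k, k < 8 → (gl k : Spor.Ly ⧸ M) = 1 := fun k hk => (QuotientGroup.eq_one_iff _).2 (hgl k hk)
    have h2 : (Z : Spor.Ly ⧸ M) * Z = 1 := by
      rw [← QuotientGroup.mk_mul, Z_sq, ev_cons, ev_cons, ev_nil, mul_one, QuotientGroup.mk_mul, q 0 (by norm_num),
        mul_one]
    have h3 := congrArg (QuotientGroup.mk (s := M)) (ev_zRels 0)
    simp only [zRels, List.getD_cons_zero, ev_cons, ev_nil, QuotientGroup.mk_mul, QuotientGroup.mk_one, mul_one,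
      q 0 (by norm_num), q 2 (by norm_num), q 3 (by norm_num), one_mul, show gl 8 = Z from rfl] at h3
    rwa [← mul_assoc, h2, one_mul] at h3
  rw [eq_top_iff, ← LyGroup.gl_closure, Subgroup.closure_le]
  rintro _ ⟨k, hk, rfl⟩
  by_cases h8 : k = 8
  · subst h8; exact hZ
  · exact hgl k (by fin_cases hk <;> first | exact absurd rfl h8 | norm_num)

/-- A word in the normalised generators whose conjugate has another trace. -/
def hTrace : List ℕ := [7, 5, 6]

/-- The trace of a word, from packed images of unit vectors. -/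
noncomputable def trN (w : List ℕ) : ZMod 5 :=
  ∑ k : Fin 7, ((vword w (encV (unitV k)) / 2 ^ (24 * k.val) % 2 ^ 24 : ℕ) : ZMod 5)

theorem trace_check : trN (mw hTrace) ≠ trN (phw hTrace) := by decide +kernel

theorem trN_eq {w : List ℕ} (hw : isN w = true) :
    trN w = Matrix.trace ((rho7 (pw w) : (LyRep.Mat 7)ˣ) : LyRep.Mat 7) := by
  refine Finset.sum_congr rfl fun k _ => ?_
  rw [← vact_word (isN_iff.1 hw), encV, slot_packF 7 _ k fun i => (ZMod.val_lt _).trans_le (by norm_num),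
    ZMod.natCast_zmod_val, vact, unitV, Matrix.single_one_vecMul]
  rfl

theorem no_complement (M : Subgroup Spor.Ly) [M.Normal] (hinf : ∀ g : P4, toLy g ∈ M → g = 1)
    (hsup : M ⊔ N0 = ⊤) : False := by
  set q : P4 →* Spor.Ly ⧸ M := (QuotientGroup.mk' M).comp toLy
  have hq : Function.Injective q := by
    rw [← MonoidHom.ker_eq_bot_iff, Subgroup.eq_bot_iff_forall]
    exact fun g hg => hinf g ((QuotientGroup.eq_one_iff _).1 hg)
  obtain ⟨y, hy⟩ : ∃ y : P4, q y = (Z : Spor.Ly ⧸ M) := by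
    have hz : Z ∈ M ⊔ N0 := hsup ▸ Subgroup.mem_top _
    obtain ⟨m, hm, n, ⟨y, rfl⟩, he⟩ := Subgroup.mem_sup_of_normal_left.1 hz
    refine ⟨y, ?_⟩
    rw [← he, QuotientGroup.mk_mul, (QuotientGroup.eq_one_iff _).2 hm, one_mul]
    rfl
  obtain ⟨n1, n2, hc⟩ := mw_phw (h := hTrace) (by decide +kernel)
  have he : q (pw (mw hTrace) * y) = q (y * pw (phw hTrace)) := by
    rw [map_mul, map_mul, hy]
    show ((toLy (pw (mw hTrace)) : Spor.Ly) : Spor.Ly ⧸ M) * _ = _ * ((toLy (pw (phw hTrace)) : Spor.Ly) : Spor.Ly ⧸ M)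
    rw [toLy_pw n1, toLy_pw n2, ← QuotientGroup.mk_mul, ← QuotientGroup.mk_mul, hc]
  have hconj : pw (phw hTrace) = y⁻¹ * pw (mw hTrace) * y := by
    rw [mul_assoc, hq he, inv_mul_cancel_left]
  apply trace_check
  rw [trN_eq n1, trN_eq n2, hconj, map_mul, map_mul, map_inv, Units.val_mul, Units.val_mul, Matrix.trace_mul_cycle,
    ← Units.val_mul, mul_inv_cancel, Units.val_one, one_mul]

theorem simple : IsSimpleGroup Spor.Ly := by
  have : Nontrivial Spor.Ly := ⟨⟨Z, 1, Z_ne_one⟩⟩
  refine ⟨fun M hM => ?_⟩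
  have := isSimple_P4
  rcases (hM.comap toLy).eq_bot_or_eq_top with hb | ht
  · have hinf : ∀ g : P4, toLy g ∈ M → g = 1 := fun g hg => by
      rwa [← Subgroup.mem_bot, ← hb, Subgroup.mem_comap]
    rcases maximal (M ⊔ N0) le_sup_right with hU | hU
    · left
      rw [Subgroup.eq_bot_iff_forall]
      intro g hg
      obtain ⟨p, rfl⟩ : g ∈ N0 := hU ▸ Subgroup.mem_sup_left hg
      rw [hinf p hg, map_one]
    · exact (no_complement M hinf hU).elim
  · right
    refine eq_top_of_le ?_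
    rintro _ ⟨p, rfl⟩
    exact (ht ▸ Subgroup.mem_top p : p ∈ M.comap toLy)

theorem isLy : IsLy Spor.Ly := ⟨simple, card_eq⟩

end CfsgLib.Sporadic.LyLower
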