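import Cfsg.Agent.Lib.Sporadic.LyLower.Cert

set_option autoImplicit false
set_option maxRecDepth 20000
set_option Elab.async false

/-! Data of a Sylow 3-subgroup (owner: helper25). -/

namespace CfsgLib.Sporadic.LyLower

/-- generators of a Sylow 3-subgroup -/
def gens3 : List (List ℕ) := [[7,8,6,8],[9,5,1,8,4,1,8,4,9,7,8,6,8,8,5,9,0,5,9,0,4,8],[9,1,9,6,5,0,9,4,1,8,4,1,7,8,6,8,0,5,9,0,5,8,1,4,7,8,0,8],[0,5,5,1,8,4,4,1,9,5,9,7,9,7,8,6,8,8,6,8,4,8,0,5,5,9,0,4,4,1],[9,7,4,9,0,4,0,9,4,8,8,7,8,6,8,9,9,5,8,1,5,1,8,5,6,8],[4,8,1,4,8,1,5,9,7,9,6,4,0,9,5,0,9,5,0,2,0,4,9,5,8,0,4,9,3,9,2,1,9,9,7,9,6,8,0,3,8,2,8,5,1,9,4,8,5,1,3,1],[8,4,7,9,7,4,8,5,1,9,7,9,6,0,4,9,5,6,8,6,5,9,4,6,2,5,3,0,9,5,7,8,6,8,4,8,1,2,4,3,7,5,0,2,0,4,9,5,8,0,4,9,3,9,2,1,9,7,8,6,8,8,0,3,8,2,8,5,1,9,4,8,5,1,3,1,4,8,1,4,8,1,5,7,8,6,8,4,0,9,5,0,9,5,5,1,6,5,0,9,5,9,7,8,6,8,8,4,8,1,4,7,0,4,4,8,1,9,6,5,0,9,5,7,9,7,9,6,6,4,8,1,4,7,8,0,9,5]]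

/-- relations -/
def rels0 : List (List ℕ) := [[]]

/-- an orbit -/
def orb0 : List (List ℕ) := [
  [1,0,0,0,0,0,0,0,0,0,0,0,0,0,0,0,0,0,0,0,0,0,0,0,0,0,0,0,0,0,0,0,0,0,0,0,0,0,0,0,0,0,0,0,0,0,0,0,0,0,0,0,0,0,0,0,0,0,0,0,0,0,0,0,0,0,0,0,0,0,0,0,0,0,0,0,0,0,0,0,0,0,0,0,0,0,0,0,0,0,0,0,0,0,0,0,0,0,0,0,0,0,0,0,0,0,0,0,0,0,0]]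

/-- relations -/
def rels1 : List (List ℕ) := [[1], [0]]

/-- an orbit -/
def orb1 : List (List ℕ) := [
  [0,0,0,0,0,0,0,0,0,0,0,0,0,0,0,0,0,0,0,0,0,0,0,0,0,0,0,0,0,0,0,0,0,0,0,0,0,0,0,0,0,0,0,0,2,0,0,0,0,0,3,0,0,0,0,1,0,0,0,0,0,0,0,0,0,0,0,0,0,0,0,0,0,0,0,0,0,0,0,0,0,0,0,0,0,0,0,0,0,0,0,0,0,0,0,0,0,0,0,0,0,0,0,0,0,0,0,0,0,0,0]]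

/-- relations -/
def rels2 : List (List ℕ) := [[1, 0], [0, 1], [0, 0]]

/-- an orbit -/
def orb2 : List (List ℕ) := [
  [2,4,4,3,4,3,2,3,4,0,2,3,4,0,4,4,1,0,1,3,1,0,3,2,1,3,2,2,0,1,2,1,0,2,1,2,0,0,1,4,0,0,1,2,3,3,0,1,1,2,2,0,1,2,4,1,0,1,3,2,2,2,0,2,1,2,4,1,3,2,4,3,2,1,4,0,2,4,2,1,3,2,2,0,0,1,1,0,2,4,2,4,0,1,2,2,0,3,3,3,1,0,4,1,3,4,2,0,1,1,1]]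

/-- relations -/
def rels3 : List (List ℕ) := [[1, 0, 0], [0, 1, 0], [0, 0, 1], [0, 0, 0]]

/-- an orbit -/
def orb3 : List (List ℕ) := [
  [0,0,0,0,0,0,0,0,0,0,0,0,0,0,0,0,0,0,0,0,0,0,0,0,0,0,0,0,0,0,0,0,0,0,0,0,0,0,0,0,0,0,0,0,2,0,0,0,0,0,3,0,0,0,0,1,0,0,0,0,0,0,0,0,0,0,0,0,0,0,0,0,0,0,0,0,0,0,0,0,0,0,0,0,0,0,0,0,0,0,0,0,0,0,0,0,0,0,0,0,0,0,0,0,0,0,0,0,0,0,0],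
  [1,3,3,1,3,4,1,4,2,0,4,2,3,1,3,3,1,2,4,1,0,0,0,1,4,3,1,2,1,1,2,2,4,1,1,0,2,3,3,2,3,4,4,3,1,1,2,0,3,2,4,2,0,1,1,3,3,1,0,1,0,1,1,1,3,1,0,4,0,4,2,4,2,1,2,2,1,4,2,4,4,1,2,3,1,3,4,4,0,1,1,2,3,1,2,4,1,4,1,3,2,4,2,3,0,3,4,0,2,3,2],
  [1,4,3,1,3,1,3,2,3,4,3,1,1,2,0,1,4,2,2,2,1,0,4,1,2,2,4,2,4,4,0,4,1,4,4,3,2,2,2,2,1,0,2,2,1,3,4,2,3,3,4,4,2,1,0,3,1,0,4,1,0,4,2,1,2,1,0,1,0,0,1,1,3,2,3,2,2,1,4,2,3,4,4,0,1,1,2,0,4,2,4,3,0,0,4,4,0,2,1,2,2,2,0,0,2,3,4,0,2,0,3],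
  [0,2,1,4,4,3,3,2,3,4,0,3,0,1,3,0,0,0,4,0,1,0,1,4,4,3,3,1,2,1,0,4,3,0,1,2,4,1,0,0,1,1,4,1,1,4,4,1,0,3,4,4,0,0,4,3,1,2,1,0,0,0,2,4,1,0,0,3,1,4,1,3,3,2,0,2,4,1,4,4,1,3,4,3,2,2,0,4,0,4,1,1,3,4,1,1,4,1,4,4,3,0,0,4,3,3,3,2,2,1,2],
  [4,2,0,4,1,1,4,1,3,4,1,3,2,0,3,2,3,0,4,4,1,3,2,2,4,2,2,2,3,4,3,3,2,1,4,4,3,4,3,3,2,2,2,3,0,4,3,3,2,2,0,3,2,4,1,0,2,0,2,4,0,1,4,3,2,4,0,4,1,4,3,1,2,1,4,4,4,4,2,1,1,1,2,3,4,2,1,0,4,1,3,4,0,0,4,2,3,2,3,2,1,3,4,4,1,2,0,4,1,3,0],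
  [2,2,1,4,4,0,2,0,3,2,1,3,2,3,2,2,2,3,0,4,0,2,4,3,0,0,0,2,1,0,3,4,4,0,0,3,4,3,0,4,4,0,3,4,1,4,1,3,3,2,4,1,3,1,1,3,4,3,4,1,0,0,3,0,0,1,0,2,0,1,4,0,2,0,4,1,4,4,0,4,1,3,0,2,2,2,2,1,1,2,1,2,2,3,1,3,0,2,2,0,4,1,2,2,4,3,3,2,2,3,3],
  [0,3,3,3,1,2,2,3,3,4,0,4,0,4,2,0,2,0,4,0,2,0,4,4,4,2,2,4,2,4,0,1,3,0,4,3,1,1,0,0,4,4,1,4,4,1,1,4,0,2,1,1,0,0,3,4,4,0,4,0,2,0,3,1,4,0,4,2,4,1,4,2,2,2,0,3,1,4,4,1,4,4,4,2,3,3,0,4,0,1,1,1,3,1,3,1,1,4,4,0,3,2,1,3,4,2,4,2,0,0,0],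
  [1,3,2,2,4,4,1,2,0,4,1,3,2,0,2,2,3,3,1,4,3,0,0,4,1,3,4,3,4,1,4,3,1,4,1,0,3,2,2,2,3,1,1,2,0,1,2,0,3,3,0,2,0,1,4,3,3,2,0,1,3,4,1,4,3,1,1,1,0,1,2,4,3,4,3,3,1,1,3,1,4,3,3,2,4,3,1,1,0,4,3,3,2,4,3,1,4,3,4,0,3,2,4,0,1,2,1,3,0,4,0],
  [1,1,2,1,0,0,4,1,3,3,0,1,0,4,0,0,0,0,1,0,2,0,0,1,1,0,4,4,3,0,3,4,2,0,0,0,1,4,0,2,2,3,3,1,0,2,3,2,1,3,0,3,3,2,1,0,2,2,0,2,0,0,4,1,0,2,0,3,4,0,3,0,3,3,4,3,3,1,1,3,2,1,1,0,3,4,0,1,1,0,1,4,2,2,2,4,2,2,1,4,2,1,2,4,0,2,1,2,1,1,0]]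

/-- relations -/
def rels4 : List (List ℕ) := [[1, 0, 0, 0], [0, 1, 0, 0], [0, 0, 1, 0], [0, 0, 0, 1], [0, 0, 0, 0]]

/-- an orbit -/
def orb4 : List (List ℕ) := [
  [0,0,0,0,0,0,0,0,0,0,0,0,0,0,0,0,0,0,0,0,0,0,0,0,0,0,0,0,0,0,0,0,0,0,0,0,0,0,0,0,0,0,0,0,2,0,0,0,0,0,3,0,0,0,0,1,0,0,0,0,0,0,0,0,0,0,0,0,0,0,0,0,0,0,0,0,0,0,0,0,0,0,0,0,0,0,0,0,0,0,0,0,0,0,0,0,0,0,0,0,0,0,0,0,0,0,0,0,0,0,0],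
  [1,3,3,1,3,4,1,4,2,0,4,2,3,1,3,3,1,2,4,1,0,0,0,1,4,3,1,2,1,1,2,2,4,1,1,0,2,3,3,2,3,4,4,3,1,1,2,0,3,2,4,2,0,1,1,3,3,1,0,1,0,1,1,1,3,1,0,4,0,4,2,4,2,1,2,2,1,4,2,4,4,1,2,3,1,3,4,4,0,1,1,2,3,1,2,4,1,4,1,3,2,4,2,3,0,3,4,0,2,3,2],
  [1,4,3,1,3,1,3,2,3,4,3,1,1,2,0,1,4,2,2,2,1,0,4,1,2,2,4,2,4,4,0,4,1,4,4,3,2,2,2,2,1,0,2,2,1,3,4,2,3,3,4,4,2,1,0,3,1,0,4,1,0,4,2,1,2,1,0,1,0,0,1,1,3,2,3,2,2,1,4,2,3,4,4,0,1,1,2,0,4,2,4,3,0,0,4,4,0,2,1,2,2,2,0,0,2,3,4,0,2,0,3],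
  [0,4,1,4,4,4,4,4,3,3,0,3,0,1,2,0,0,0,2,0,1,0,4,2,2,1,2,4,1,2,0,1,4,0,2,3,1,3,0,0,2,4,1,1,1,3,3,4,0,3,4,3,0,0,2,3,2,4,4,0,0,0,4,1,3,0,0,3,4,1,3,4,3,4,0,3,2,1,3,1,3,4,3,2,3,1,0,3,0,1,1,2,1,1,1,2,1,1,3,4,1,0,0,2,1,1,3,2,2,3,1],
  [0,2,1,4,4,3,3,2,3,4,0,3,0,1,3,0,0,0,4,0,1,0,1,4,4,3,3,1,2,1,0,4,3,0,1,2,4,1,0,0,1,1,4,1,1,4,4,1,0,3,4,4,0,0,4,3,1,2,1,0,0,0,2,4,1,0,0,3,1,4,1,3,3,2,0,2,4,1,4,4,1,3,4,3,2,2,0,4,0,4,1,1,3,4,1,1,4,1,4,4,3,0,0,4,3,3,3,2,2,1,2],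
  [4,2,0,4,1,1,4,1,3,4,1,3,2,0,3,2,3,0,4,4,1,3,2,2,4,2,2,2,3,4,3,3,2,1,4,4,3,4,3,3,2,2,2,3,0,4,3,3,2,2,0,3,2,4,1,0,2,0,2,4,0,1,4,3,2,4,0,4,1,4,3,1,2,1,4,4,4,4,2,1,1,1,2,3,4,2,1,0,4,1,3,4,0,0,4,2,3,2,3,2,1,3,4,4,1,2,0,4,1,3,0],
  [0,4,3,3,1,4,4,4,3,2,0,4,0,4,3,0,2,0,3,0,2,0,1,3,3,1,3,1,4,2,0,4,1,0,2,2,4,2,0,0,2,1,4,4,4,3,3,1,0,2,1,3,0,0,1,4,2,0,1,0,2,0,4,4,3,0,4,2,1,4,3,4,2,1,0,2,2,4,2,4,3,3,2,3,2,1,0,2,0,4,1,3,4,4,3,3,4,4,2,0,4,4,1,1,2,1,4,2,0,0,0],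
  [2,2,1,4,4,0,2,0,3,2,1,3,2,3,2,2,2,3,0,4,0,2,4,3,0,0,0,2,1,0,3,4,4,0,0,3,4,3,0,4,4,0,3,4,1,4,1,3,3,2,4,1,3,1,1,3,4,3,4,1,0,0,3,0,0,1,0,2,0,1,4,0,2,0,4,1,4,4,0,4,1,3,0,2,2,2,2,1,1,2,1,2,2,3,1,3,0,2,2,0,4,1,2,2,4,3,3,2,2,3,3],
  [4,3,3,0,4,2,0,0,4,3,2,1,4,1,3,4,2,0,1,3,2,3,2,2,1,1,1,1,0,2,0,2,0,4,2,4,4,0,2,3,0,0,0,1,0,1,0,0,2,0,0,0,0,4,0,0,0,4,2,4,0,4,0,4,4,4,0,3,0,4,0,2,0,4,3,2,2,0,3,4,3,0,3,3,2,1,3,2,0,1,1,0,4,2,4,4,0,1,1,4,2,4,4,0,3,0,4,4,3,4,0],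
  [2,1,3,1,3,2,3,3,2,0,2,2,4,1,2,4,1,3,2,3,0,0,0,3,2,1,4,3,3,2,4,3,2,1,2,0,3,4,3,4,1,1,1,3,1,2,4,0,4,2,4,4,0,3,3,3,1,2,0,3,0,1,2,4,4,3,0,4,0,1,1,2,2,2,3,3,3,4,4,1,2,3,4,2,4,4,3,3,0,4,1,4,1,4,2,3,4,4,2,3,4,2,2,4,0,1,4,0,2,4,1],
  [0,3,3,3,1,2,2,3,3,4,0,4,0,4,2,0,2,0,4,0,2,0,4,4,4,2,2,4,2,4,0,1,3,0,4,3,1,1,0,0,4,4,1,4,4,1,1,4,0,2,1,1,0,0,3,4,4,0,4,0,2,0,3,1,4,0,4,2,4,1,4,2,2,2,0,3,1,4,4,1,4,4,4,2,3,3,0,4,0,1,1,1,3,1,3,1,1,4,4,0,3,2,1,3,4,2,4,2,0,0,0],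
  [0,1,2,1,0,1,1,3,3,2,4,1,3,1,0,3,2,2,0,1,1,3,0,2,0,4,3,3,4,3,3,3,1,0,3,0,1,2,0,0,3,1,0,4,0,2,2,4,0,2,0,2,4,0,1,0,3,1,0,0,0,0,1,0,2,0,0,2,0,0,2,1,2,0,2,4,3,4,0,4,2,2,0,0,3,4,3,4,3,4,1,3,3,1,2,2,4,3,3,0,1,3,4,4,4,0,1,2,1,0,2],
  [1,3,2,2,4,4,1,2,0,4,1,3,2,0,2,2,3,3,1,4,3,0,0,4,1,3,4,3,4,1,4,3,1,4,1,0,3,2,2,2,3,1,1,2,0,1,2,0,3,3,0,2,0,1,4,3,3,2,0,1,3,4,1,4,3,1,1,1,0,1,2,4,3,4,3,3,1,1,3,1,4,3,3,2,4,3,1,1,0,4,3,3,2,4,3,1,4,3,4,0,3,2,4,0,1,2,1,3,0,4,0],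
  [0,0,1,3,0,0,0,0,4,0,0,3,0,0,3,0,3,1,0,0,2,4,1,0,0,0,4,2,0,0,0,0,0,0,0,2,0,0,0,0,0,3,3,0,0,0,0,4,0,0,0,0,1,0,0,3,0,0,1,0,3,0,0,2,0,0,1,0,3,4,0,0,0,0,3,3,0,0,0,0,0,0,0,3,0,0,0,0,2,1,3,0,0,3,1,0,2,0,0,1,0,0,4,0,0,0,3,1,3,0,0],
  [4,1,0,4,1,4,2,4,4,2,3,2,1,1,4,1,1,1,3,2,2,2,4,2,3,3,3,4,2,1,4,1,3,4,1,3,3,1,2,3,4,4,2,2,0,2,1,0,2,3,0,1,1,4,0,0,4,4,4,4,0,4,3,0,3,4,0,1,4,2,4,4,3,3,1,2,3,1,1,3,2,3,1,4,4,4,2,2,2,1,1,1,4,4,1,2,1,0,3,1,1,3,2,2,2,0,0,4,1,1,2],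
  [2,4,2,4,2,4,0,2,2,0,3,4,1,2,0,1,0,0,1,2,2,2,4,0,1,3,1,4,1,1,3,1,4,1,1,3,1,3,3,4,0,4,2,4,4,3,0,3,4,0,1,0,3,3,1,4,0,1,4,3,2,1,0,1,3,3,4,2,0,0,0,4,0,4,1,3,4,0,3,3,1,4,3,0,3,2,2,4,1,3,1,4,3,4,1,0,1,0,0,0,0,4,4,4,3,1,1,0,3,0,1],
  [3,0,4,1,1,4,3,4,4,1,1,0,2,4,3,2,4,2,3,4,2,0,0,1,3,3,2,3,0,1,0,3,0,1,1,0,1,0,3,1,2,1,1,4,0,0,3,3,1,0,0,3,2,2,3,3,2,0,0,2,3,1,4,0,3,2,1,2,1,4,1,4,0,3,3,4,0,0,1,1,0,2,1,3,3,0,1,4,4,1,0,0,3,4,3,3,4,4,2,3,4,1,4,3,0,1,2,3,3,0,1],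
  [1,1,2,1,0,0,4,1,3,3,0,1,0,4,0,0,0,0,1,0,2,0,0,1,1,0,4,4,3,0,3,4,2,0,0,0,1,4,0,2,2,3,3,1,0,2,3,2,1,3,0,3,3,2,1,0,2,2,0,2,0,0,4,1,0,2,0,3,4,0,3,0,3,3,4,3,3,1,1,3,2,1,1,0,3,4,0,1,1,0,1,4,2,2,2,4,2,2,1,4,2,1,2,4,0,2,1,2,1,1,0],
  [0,3,1,4,4,2,2,3,3,1,0,3,0,1,3,0,0,0,1,0,1,0,1,1,1,2,3,1,3,4,0,4,2,0,4,2,4,4,0,0,4,1,4,1,1,1,1,1,0,3,4,1,0,0,1,3,4,3,1,0,0,0,3,4,4,0,0,3,1,4,4,2,3,3,0,2,1,1,1,4,4,2,1,3,2,3,0,1,0,4,1,4,2,4,1,4,4,1,1,4,2,0,0,1,2,2,3,2,2,4,3],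
  [3,4,2,2,4,3,2,1,0,2,2,3,4,0,3,4,3,2,2,3,3,0,0,3,2,4,1,2,3,3,2,2,2,4,3,0,2,4,2,1,4,4,4,2,0,3,1,0,1,3,0,1,0,2,3,3,4,1,0,2,3,4,3,1,1,2,1,1,0,4,4,3,3,2,2,2,2,1,4,4,3,1,4,3,1,1,3,3,0,1,3,4,1,1,3,3,1,3,2,0,4,4,4,0,3,1,1,3,0,3,0],
  [3,2,0,4,1,2,1,3,4,4,4,2,3,1,1,3,1,4,4,1,2,3,1,1,4,1,2,1,1,2,3,4,4,4,2,2,2,3,2,1,3,1,3,2,0,4,2,0,1,3,0,2,4,2,0,0,3,3,1,2,0,4,1,0,4,2,0,1,1,3,2,2,3,1,4,3,4,1,2,2,1,4,2,1,1,2,4,4,3,4,1,2,3,1,1,4,4,0,1,1,2,4,2,1,4,0,0,4,1,3,1],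
  [3,3,3,3,1,0,3,1,3,4,1,4,2,2,3,2,0,2,0,4,3,3,1,3,0,0,0,3,1,0,1,1,4,0,0,2,1,3,0,1,1,0,2,1,4,1,4,2,2,3,1,4,2,4,4,4,1,1,1,4,2,0,2,0,0,4,4,3,0,4,1,0,3,0,1,4,1,1,0,1,4,1,0,3,3,3,2,1,4,3,1,2,2,2,3,3,0,3,2,4,4,4,4,2,0,0,4,2,0,4,2],
  [1,2,3,0,4,3,0,0,4,2,3,1,1,1,3,1,2,0,4,2,2,3,2,3,4,4,1,1,0,3,0,2,0,4,3,4,4,0,2,2,0,0,0,1,0,4,0,0,3,0,0,0,0,1,0,0,0,1,2,1,0,4,0,4,1,1,0,3,0,4,0,3,0,1,3,2,3,0,2,4,2,0,2,3,2,4,2,3,0,1,1,0,1,2,4,1,0,1,4,4,3,1,4,0,2,0,4,4,3,1,0],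
  [1,4,2,2,4,1,3,1,4,0,2,4,4,4,0,4,0,3,3,3,2,0,1,4,3,2,1,3,1,4,1,1,4,1,4,2,3,3,3,2,1,0,3,3,0,3,4,3,3,2,0,4,3,1,4,3,1,4,1,1,3,1,2,4,2,1,1,4,0,0,1,1,2,3,2,3,2,4,1,3,3,1,1,0,4,1,3,0,1,3,0,2,0,0,1,1,0,0,4,1,3,1,1,2,1,0,1,3,0,1,2],
  [0,2,2,1,0,3,3,1,3,4,2,1,4,1,0,4,2,3,0,3,1,2,0,1,0,3,2,2,2,1,1,2,3,0,1,0,4,1,0,0,1,4,0,4,0,4,4,1,0,2,0,4,1,0,3,0,1,2,0,0,0,0,2,0,1,0,0,2,0,0,1,3,2,0,3,1,4,4,0,1,1,1,0,0,2,2,1,3,2,1,1,1,1,4,2,4,1,3,1,0,2,4,4,2,3,0,1,2,1,0,1],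
  [4,2,3,1,3,1,4,1,2,0,1,2,2,1,3,2,1,2,1,4,0,0,0,4,1,2,1,2,4,4,3,2,1,1,4,0,2,2,3,3,2,4,4,3,1,4,3,0,2,2,4,3,0,4,4,3,2,4,0,4,0,1,4,1,2,4,0,4,0,4,3,1,2,4,2,2,4,4,3,4,1,4,3,3,1,2,1,1,0,1,1,3,2,1,2,1,1,4,4,3,3,1,2,2,0,2,4,0,2,2,3],
  [0,0,0,2,3,0,0,0,3,0,0,0,0,4,4,0,1,0,0,0,2,0,3,0,0,0,1,0,0,0,0,4,0,0,0,1,0,0,0,0,0,2,1,0,4,0,0,4,0,0,1,0,4,0,0,4,0,0,3,0,2,0,0,0,0,0,4,0,0,2,0,0,0,0,2,0,0,0,0,1,0,0,0,4,0,0,0,0,3,2,1,0,0,3,0,0,3,3,0,2,0,0,4,0,0,0,0,2,3,0,0]]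

/-- relations -/
def rels5 : List (List ℕ) := [[1, 0, 0, 0, 0], [0, 0, 0, 0, 1], [1, 2, 1, 1, 0], [0, 1, 0, 0, 0], [0, 0, 0, 1, 0], [0, 0, 0, 0, 0]]

/-- an orbit -/
def orb5 : List (List ℕ) := [
  [2,4,4,3,4,3,2,3,4,0,2,3,4,0,4,4,1,0,1,3,1,0,3,2,1,3,2,2,0,1,2,1,0,2,1,2,0,0,1,4,0,0,1,2,3,3,0,1,1,2,2,0,1,2,4,1,0,1,3,2,2,2,0,2,1,2,4,1,3,2,4,3,2,1,4,0,2,4,2,1,3,2,2,0,0,1,1,0,2,4,2,4,0,1,2,2,0,3,3,3,1,0,4,1,3,4,2,0,1,1,1],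
  [4,4,2,3,3,2,0,0,4,3,0,3,0,4,1,0,3,4,2,0,3,0,0,2,2,0,0,3,1,0,1,3,4,4,0,1,2,3,2,3,3,0,2,0,1,3,2,3,2,2,4,2,1,4,4,0,3,2,0,4,2,4,1,2,4,4,4,0,0,3,0,2,2,2,3,3,2,4,4,2,3,0,4,2,1,1,4,1,2,4,1,0,2,1,3,2,0,3,3,2,1,3,3,0,4,1,1,4,4,4,4],
  [4,2,4,4,3,0,3,2,2,2,3,4,1,1,1,1,1,3,2,2,1,1,0,1,2,2,1,4,4,4,2,4,1,4,4,1,4,2,2,3,2,2,2,3,1,4,3,1,2,1,4,3,4,4,2,4,2,2,0,4,1,4,4,2,0,4,2,4,0,3,1,0,1,2,2,1,1,2,4,0,4,3,4,2,2,3,0,4,3,2,2,1,3,3,0,1,3,4,4,0,3,2,3,4,3,0,2,1,0,0,0]]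

/-- relations -/
def rels6 : List (List ℕ) := [[1, 0, 0, 0, 0, 0], [0, 0, 2, 0, 0, 0], [2, 2, 2, 1, 1, 0], [1, 0, 2, 2, 1, 0], [2, 1, 2, 2, 0, 0], [2, 1, 0, 2, 0, 1], [2, 1, 0, 1, 1, 0]]

/-- an orbit -/
def orb6 : List (List ℕ) := [
  [2,4,4,3,4,3,2,3,4,0,2,3,4,0,4,4,1,0,1,3,1,0,3,2,1,3,2,2,0,1,2,1,0,2,1,2,0,0,1,4,0,0,1,2,3,3,0,1,1,2,2,0,1,2,4,1,0,1,3,2,2,2,0,2,1,2,4,1,3,2,4,3,2,1,4,0,2,4,2,1,3,2,2,0,0,1,1,0,2,4,2,4,0,1,2,2,0,3,3,3,1,0,4,1,3,4,2,0,1,1,1],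
  [4,4,2,3,3,2,0,0,4,3,0,3,0,4,1,0,3,4,2,0,3,0,0,2,2,0,0,3,1,0,1,3,4,4,0,1,2,3,2,3,3,0,2,0,1,3,2,3,2,2,4,2,1,4,4,0,3,2,0,4,2,4,1,2,4,4,4,0,0,3,0,2,2,2,3,3,2,4,4,2,3,0,4,2,1,1,4,1,2,4,1,0,2,1,3,2,0,3,3,2,1,3,3,0,4,1,1,4,4,4,4],
  [0,3,4,4,3,1,3,4,1,3,4,0,3,2,0,3,0,4,0,1,4,0,3,2,0,2,4,1,4,4,4,0,1,1,4,2,4,2,3,0,4,3,4,2,1,1,1,1,3,4,4,1,1,1,2,4,4,1,3,1,1,1,3,4,2,1,2,1,3,0,1,1,4,1,3,4,2,3,2,4,3,3,2,1,2,1,4,4,2,1,4,2,3,3,3,4,2,2,1,2,2,4,2,4,0,0,2,1,0,2,0],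
  [4,2,4,4,3,0,3,2,2,2,3,4,1,1,1,1,1,3,2,2,1,1,0,1,2,2,1,4,4,4,2,4,1,4,4,1,4,2,2,3,2,2,2,3,1,4,3,1,2,1,4,3,4,4,2,4,2,2,0,4,1,4,4,2,0,4,2,4,0,3,1,0,1,2,2,1,1,2,4,0,4,3,4,2,2,3,0,4,3,2,2,1,3,3,0,1,3,4,4,0,3,2,3,4,3,0,2,1,0,0,0],
  [3,2,4,3,4,3,1,0,1,2,2,1,4,4,1,4,4,4,2,3,2,1,2,3,2,1,3,0,3,2,1,1,2,3,2,0,0,4,4,1,3,2,3,3,3,4,2,2,2,3,2,2,0,4,0,1,3,0,2,4,2,3,1,0,1,4,4,4,0,3,2,3,3,4,1,2,0,1,3,1,0,3,3,2,0,0,2,4,0,3,3,4,3,3,1,0,3,0,0,2,0,1,2,0,1,1,2,0,1,2,1],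
  [3,3,2,3,3,1,0,0,4,1,0,3,0,4,3,0,3,4,1,0,3,4,2,1,1,0,2,3,3,0,2,4,2,4,0,0,2,4,2,1,1,3,3,0,1,1,4,2,1,2,4,4,3,2,2,0,1,4,2,2,2,4,2,2,2,2,4,0,2,4,0,1,2,4,3,3,1,4,3,0,4,0,3,4,1,3,3,2,1,1,1,0,4,4,3,4,2,3,1,2,2,4,3,0,3,2,1,4,4,2,2],
  [2,0,2,3,3,1,1,1,3,0,4,4,3,4,0,3,1,4,3,1,4,0,3,0,3,2,1,3,3,4,0,2,2,1,4,2,2,4,3,4,3,2,3,0,1,0,2,2,0,3,4,2,0,0,3,0,3,4,3,0,2,1,1,2,2,0,4,0,0,0,2,1,3,0,0,3,3,1,0,3,2,4,0,1,1,4,4,2,0,1,3,4,4,4,1,1,3,3,4,1,3,0,1,1,4,4,1,4,4,1,4],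
  [3,4,4,4,3,0,4,4,2,4,4,4,3,1,3,3,1,0,1,1,1,3,2,3,1,4,1,2,2,3,4,3,3,4,3,0,0,1,2,1,4,1,3,3,1,3,1,4,1,1,4,1,0,2,1,4,4,4,2,2,1,4,3,2,0,2,2,4,2,4,3,0,1,4,4,0,3,2,3,2,2,4,3,4,0,4,0,3,0,3,2,2,1,2,0,2,4,4,3,0,1,1,3,2,1,0,2,1,0,0,0],
  [4,3,4,3,4,4,1,1,4,0,1,3,2,0,0,2,1,3,3,4,1,4,4,1,3,1,0,4,0,2,4,1,0,2,2,4,4,0,1,3,0,3,4,2,3,1,0,4,3,2,2,0,3,1,2,1,0,2,4,1,2,2,0,2,3,1,4,1,4,0,2,4,2,2,2,1,1,4,4,1,4,1,4,1,2,3,2,0,1,1,2,3,0,4,2,4,2,3,1,3,2,0,4,3,1,3,2,0,1,3,3]]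

end CfsgLib.Sporadic.LyLower
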